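import Cfsg.Agent.Lib.U43Mult.Cert
import Cfsg.Agent.Lib.U43Mult.ThreeData

/-!
# Checks of the certificate at three and of the witnesses
-/

set_option autoImplicit false
set_option Elab.async false
set_option maxRecDepth 20000

namespace Cfsg.Agent.Lib.U43Mult

open Code
open Cfsg.Agent.Lib.Schur.PcCollect (listVec)

theorem three_cert : three.certOk (listVec 3) threeEqs threeCombos = true := by decide +kernel
theorem three_ix : ixOk three.n threeIx threeMs = true := by decide +kernel
theorem three_rels : relsOk three threeMs = true := by decide +kernel
theorem three_sep : sepOk three threeMs threeSep = true := by decide +kernel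
theorem three_conjs : conjsOk three threeMs threeXs = true := by decide +kernel
theorem witA_ok : (mulC (wcode witA.1) (wcode witA.2) == mulC omA (mulC (wcode witA.2) (wcode witA.1))) = true := by
  decide +kernel
theorem witB_ok : (mulC (wcode witB.1) (wcode witB.2) == mulC omB (mulC (wcode witB.2) (wcode witB.1))) = true := by
  decide +kernel

end Cfsg.Agent.Lib.U43Mult
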