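import Cfsg.Agent.Lib.U43Mult.Kernel
import Cfsg.Agent.Lib.U43Mult.ThreeChecks
import Cfsg.Agent.Lib.MultU62.Tame
import Cfsg.Agent.Lib.MultPSU.CrossMain
import Cfsg.Agent.Lib.Multiplier.Central
import Cfsg.Agent.Lib.Schur.PermMult
import Cfsg.Agent.S2089

/-!
# The Schur multiplier of `PSU(4,3)`

The cover inside `GL(24,2) × SU(4,3)` is perfect; it has no multiplier at three by a certificate on the first
factor, and none at other primes since the second factor has none there.
-/

set_option autoImplicit false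
set_option maxRecDepth 20000
set_option maxHeartbeats 400000

namespace Cfsg.Agent.Lib.U43Mult

open Cfsg Code
open Cfsg.Agent.Lib.U33 (K9)
open Cfsg.Agent.Lib.LatticeUnitary.U4 (line atomPerm side_gens side_chain side_check)
open Cfsg.Agent.Lib.Computation (getW permRep decodeP okPerm decodeP_apply)
open scoped commutatorElement

attribute [local irreducible] omU genX mulC applyC

theorem pr2_central_of_act {x : K} (h : ∀ k, act x k = k) : pr2 x ∈ Subgroup.center SU4 := by
  obtain ⟨l, hl⟩ := LatticeUnitary.U4.scalar_of_lines (mat4 x) fun k z hz => by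
    have := act_line x hz
    rwa [h k] at this
  exact (Unitary.mem_center_SU_iff card_K9 (by norm_num) _).2 ⟨l, hl⟩

theorem act_of_central {x : K} (h : pr2 x ∈ Subgroup.center SU4) (k : Fin 112) : act x k = k := by
  obtain ⟨l, hl⟩ := (Unitary.mem_center_SU_iff card_K9 (by norm_num) _).1 h
  exact act_unique x fun z hz => by
    rw [show mat4 x = (pr2 x).1.1 from rfl, hl z]
    exact Submodule.smul_mem _ _ hz

theorem pr2_central_of_scalar {x : K} {a b : ℕ} (h : pr1 x = sU a b) : pr2 x ∈ Subgroup.center SU4 :=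
  pr2_central_of_act (act_of_scalar (h ▸ has_sU a b))

theorem sU_zero : sU 0 0 = 1 := by rw [sU, pow_zero, pow_zero, mul_one]

theorem mul_pow_pow_of {M : Type*} [Monoid M] {g x y : Mˣ} (hx : g * x = x * g) (hy : g * y = y * g) (a b : ℕ) :
    g * (x ^ a * y ^ b) = x ^ a * y ^ b * g :=
  (((show Commute g x from hx).pow_right a).mul_right ((show Commute g y from hy).pow_right b)).eq

theorem mem_center_K {x : K} (h : pr2 x ∈ Subgroup.center SU4) : x ∈ Subgroup.center K := by
  obtain ⟨a, -, b, -, e⟩ := scalar_of_act (act_of_central h)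
  refine Subgroup.mem_center_iff.2 fun y => pr_ext ?_ ?_
  · rw [map_mul, map_mul, e, sU]
    exact mul_pow_pow_of (pr1_comm y true) (pr1_comm y false) a b
  · rw [map_mul, map_mul]
    exact Subgroup.mem_center_iff.1 h _

/-- The covering map. -/
noncomputable def sigma : K →* Cfsg.PSU 4 K9 3 := (QuotientGroup.mk' _).comp pr2

theorem mem_ker_sigma {x : K} : x ∈ sigma.ker ↔ pr2 x ∈ Subgroup.center SU4 := QuotientGroup.eq_one_iff _

theorem card_psu : Nat.card (Cfsg.PSU 4 K9 3) = 3265920 := by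
  classical
  have h := Cfsg.Agent.S0280.result (F := K9) (q := 3) card_K9 4 (by omega)
  norm_num [Finset.prod_range_succ, Nat.even_iff] at h
  rw [Nat.card_eq_fintype_card]; omega

theorem finite_psu : Finite (Cfsg.PSU 4 K9 3) := Nat.finite_of_card_ne_zero (by rw [card_psu]; omega)

theorem rho_gen (g : Fin 2) (j : Fin 112) : (rho ⟨pairGen g, pairGen_mem g⟩ j).1 = atomPerm g j := by
  obtain ⟨-, k', i', h1, -, -⟩ := respects_gen g
  have e : act ⟨pairGen g, pairGen_mem g⟩ j = ⟨atomPerm g j, (LatticeUnitary.U4.atom_ok g j).1⟩ := by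
    refine act_unique _ fun z hz => ?_
    show Matrix.mulVec (LatticeUnitary.U4.matN g) z ∈ _
    obtain ⟨a, b, rfl⟩ := LatticeUnitary.U4.mem_line.1 hz
    rw [Matrix.mulVec_add, Matrix.mulVec_smul, Matrix.mulVec_smul]
    refine add_mem (Submodule.smul_mem _ _ ?_) (Submodule.smul_mem _ _ ?_) <;>
      rw [LatticeUnitary.U4.mulVec_eq]
    · exact LatticeUnitary.U4.mem_line.2 ⟨LatticeUnitary.U4.cf g j 0, LatticeUnitary.U4.cf g j 1,
        funext fun i => by simpa using ((LatticeUnitary.U4.image_ok g j i).1).symm⟩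
    · exact LatticeUnitary.U4.mem_line.2 ⟨LatticeUnitary.U4.cf g j 2, LatticeUnitary.U4.cf g j 3,
        funext fun i => by simpa using ((LatticeUnitary.U4.image_ok g j i).2).symm⟩
  rw [rho_apply, e]

theorem card_rho : 3265920 ≤ Nat.card rho.range := by
  have hc := (permRep 112 7 (by decide)).card_closure side_check
  have ho : (permRep 112 7 (by decide)).order side_chain = 3265920 := by decide +kernel
  rw [ho] at hc
  rw [← hc]
  refine Subgroup.card_le_of_le ?_
  rw [Subgroup.closure_le]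
  rintro _ ⟨c, hc', rfl⟩
  have hg : ∀ g : Fin 2, okPerm 112 7 (side_gens.getD g 0) = true := by decide +kernel
  obtain ⟨i, hi, rfl⟩ := List.mem_iff_getElem.1 hc'
  have hl : side_gens.length = 2 := rfl
  refine ⟨⟨pairGen ⟨i, hl ▸ hi⟩, pairGen_mem _⟩, Equiv.ext fun j => Fin.ext ?_⟩
  rw [← List.getD_eq_getElem side_gens 0 hi]
  show _ = (decodeP 112 7 (side_gens.getD i 0) j).1
  rw [decodeP_apply (hg ⟨i, hl ▸ hi⟩)]
  exact rho_gen ⟨i, hl ▸ hi⟩ j

theorem ker_sigma_le_rho : sigma.ker ≤ rho.ker := fun _ hx =>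
  Equiv.ext fun k => act_of_central (mem_ker_sigma.1 hx) k

theorem sigma_surjective : Function.Surjective sigma := by
  have := finite_psu
  rw [← MonoidHom.range_eq_top]
  refine Subgroup.eq_top_of_le_card _ ?_
  rw [card_psu]
  refine card_rho.trans ?_
  rw [← Subgroup.index_ker, ← Subgroup.index_ker]
  exact Nat.le_of_dvd (Nat.pos_of_ne_zero Subgroup.index_ne_zero_of_finite)
    (Subgroup.index_dvd_of_le ker_sigma_le_rho)

theorem pr2_surjective : Function.Surjective pr2 := by
  rw [← MonoidHom.range_eq_top]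
  have hsup : pr2.range ⊔ Subgroup.center SU4 = ⊤ := by
    refine eq_top_iff.2 fun s _ => ?_
    obtain ⟨x, hx⟩ := sigma_surjective (QuotientGroup.mk' _ s)
    have h : (pr2 x)⁻¹ * s ∈ Subgroup.center SU4 := QuotientGroup.eq.1 hx
    have := mul_mem (Subgroup.mem_sup_left (T := Subgroup.center SU4) (MonoidHom.mem_range.2 ⟨x, rfl⟩))
      (Subgroup.mem_sup_right (S := pr2.range) h)
    rwa [mul_inv_cancel_left] at this
  have h := Multiplier.commutator_le_of_sup_central _ _ le_rfl hsup
  rw [Unitary.commutator_SU card_K9 (by omega) (by omega)] at h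
  exact top_unique (h.trans (Subgroup.commutator_le_self _))

theorem card_center : Nat.card (Subgroup.center SU4) = 4 :=
  (Unitary.card_center_SU card_K9 (by omega)).trans (by decide)

theorem center_pow {s : SU4} (h : s ∈ Subgroup.center SU4) : s ^ 4 = 1 := by
  have h' := pow_card_eq_one' (x := (⟨s, h⟩ : Subgroup.center SU4))
  rw [card_center] at h'
  exact congrArg Subtype.val h'

theorem pow_four_of {M : Type*} [Monoid M] {x : Mˣ} (h : x ^ 3 = 1) : x ^ 4 = x := by
  rw [pow_succ, h, one_mul]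

theorem exists_omega {c : Bool} {w : List ℕ × List ℕ}
    (h : (mulC (wcode w.1) (wcode w.2) == mulC (cond c omA omB) (mulC (wcode w.2) (wcode w.1))) = true) :
    ∃ y ∈ commutator K, pr1 y = omU c ∧ pr2 y = 1 := by
  rw [beq_iff_eq] at h
  have e : pr1 (wK w.1) * pr1 (wK w.2) = omU c * (pr1 (wK w.2) * pr1 (wK w.1)) :=
    ((has_wK _).mul (has_wK _)).eq (h ▸ (has_omU c).mul ((has_wK _).mul (has_wK _)))
  have e1 : pr1 ⁅wK w.1, wK w.2⁆ = omU c := by
    rw [map_commutatorElement, commutatorElement_def, e]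
    group
  have hsc : pr1 ⁅wK w.1, wK w.2⁆ = sU (cond c 1 0) (cond c 0 1) := by
    rw [e1]; cases c <;> simp [sU]
  refine ⟨⁅wK w.1, wK w.2⁆ ^ 4,
    pow_mem (Subgroup.commutator_mem_commutator (Subgroup.mem_top _) (Subgroup.mem_top _)) 4, ?_, ?_⟩
  · rw [map_pow, e1, pow_four_of (omU_pow_three c)]
  · rw [map_pow, center_pow (pr2_central_of_scalar hsc)]

theorem exists_scalar (a b : ℕ) : ∃ y ∈ commutator K, pr1 y = sU a b ∧ pr2 y = 1 := by
  obtain ⟨u, hu, u1, u2⟩ := exists_omega (c := true) witA_ok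
  obtain ⟨v, hv, v1, v2⟩ := exists_omega (c := false) witB_ok
  exact ⟨u ^ a * v ^ b, mul_mem (pow_mem hu a) (pow_mem hv b),
    by rw [map_mul, map_pow, map_pow, u1, v1]; rfl,
    by rw [map_mul, map_pow, map_pow, u2, v2, one_pow, one_pow, mul_one]⟩

theorem perfect_K : commutator K = ⊤ := by
  have hmap : (commutator K).map pr2 = ⊤ := by
    rw [commutator_def, Subgroup.map_commutator, Subgroup.map_top_of_surjective _ pr2_surjective,
      ← commutator_def, Unitary.commutator_SU card_K9 (by omega) (by omega)]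
  rw [eq_top_iff]
  intro x _
  obtain ⟨c, hc, e⟩ := (hmap.symm ▸ Subgroup.mem_top (pr2 x) : pr2 x ∈ (commutator K).map pr2)
  have h1 : pr2 (c⁻¹ * x) = 1 := by rw [map_mul, map_inv, e, inv_mul_cancel]
  obtain ⟨a, -, b, -, hs⟩ := scalar_of_act (act_of_central (x := c⁻¹ * x) (h1 ▸ one_mem _))
  obtain ⟨y, hy, y1, y2⟩ := exists_scalar a b
  have : x = c * y := by
    have e' : c⁻¹ * x = y := pr_ext (hs.trans y1.symm) (h1.trans y2.symm)
    rw [← e', mul_inv_cancel_left]
  rw [this]
  exact mul_mem hc hy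

theorem ker_pr1_le : pr1.ker ≤ sigma.ker := fun x hx =>
  mem_ker_sigma.2 (pr2_central_of_scalar (a := 0) (b := 0) (by rw [sU_zero]; exact MonoidHom.mem_ker.1 hx))

theorem ker_sigma_central : sigma.ker ≤ Subgroup.center K := fun _ hx => mem_center_K (mem_ker_sigma.1 hx)

/-- The scalars on the modules. -/
noncomputable def scal : Multiplicative (ZMod 3 × ZMod 3) →* GL24 where
  toFun z := sU z.toAdd.1.val z.toAdd.2.val
  map_one' := sU_zero
  map_mul' z w := by
    have hm : ∀ (c : Bool) (m n : ZMod 3), omU c ^ (m + n).val = omU c ^ m.val * omU c ^ n.val := by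
      intro c m n
      rw [ZMod.val_add, ← pow_add]
      exact (pow_eq_pow_mod _ (omU_pow_three c)).symm
    show sU (z.toAdd.1 + w.toAdd.1).val (z.toAdd.2 + w.toAdd.2).val = _
    rw [sU, sU, sU, hm, hm]
    exact Commute.mul_mul_mul_comm (pow_mul_pow_of omU_comm.symm _ _).symm _ _

theorem scal_injective : Function.Injective scal := by
  intro z w h
  have h' : sU z.toAdd.1.val z.toAdd.2.val = sU w.toAdd.1.val w.toAdd.2.val := h
  have hw := has_sU w.toAdd.1.val w.toAdd.2.val
  rw [← h'] at hw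
  have h0 := (has_sU z.toAdd.1.val z.toAdd.2.val).code_eq hw
  have hk := om_ok
  simp only [Bool.and_eq_true, List.all_eq_true, List.mem_range, Bool.or_eq_true, Bool.not_eq_true',
    Nat.beq_eq, beq_eq_false_iff_ne] at hk
  rcases hk.2 _ (ZMod.val_lt z.toAdd.1) _ (ZMod.val_lt z.toAdd.2) _ (ZMod.val_lt w.toAdd.1) _
    (ZMod.val_lt w.toAdd.2) with ⟨e1, e2⟩ | hne
  · exact Multiplicative.toAdd.injective (Prod.ext (ZMod.val_injective 3 e1) (ZMod.val_injective 3 e2))
  · exact absurd h0 hne

theorem pr1_mem_scal {x : K} (hx : x ∈ sigma.ker) : pr1 x ∈ scal.range := by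
  obtain ⟨a, ha, b, hb, e⟩ := scalar_of_act (act_of_central (mem_ker_sigma.1 hx))
  exact ⟨Multiplicative.ofAdd ((a : ZMod 3), (b : ZMod 3)), by
    show sU (a : ZMod 3).val (b : ZMod 3).val = _
    rw [ZMod.val_natCast, ZMod.val_natCast, Nat.mod_eq_of_lt ha, Nat.mod_eq_of_lt hb, e]⟩

/-- The kernel of the cover as a product. -/
noncomputable def kerHom : sigma.ker →* Subgroup.center SU4 × scal.range where
  toFun x := (⟨pr2 x.1, mem_ker_sigma.1 x.2⟩, ⟨pr1 x.1, pr1_mem_scal x.2⟩)
  map_one' := Prod.ext (Subtype.ext (map_one pr2)) (Subtype.ext (map_one pr1))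
  map_mul' x y := Prod.ext (Subtype.ext (map_mul pr2 _ _)) (Subtype.ext (map_mul pr1 _ _))

theorem kerHom_bijective : Function.Bijective kerHom := by
  refine ⟨fun x y h => Subtype.ext (pr_ext (congrArg Subtype.val (Prod.ext_iff.1 h).2)
    (congrArg Subtype.val (Prod.ext_iff.1 h).1)), fun p => ?_⟩
  obtain ⟨c, hc⟩ := pr2_surjective p.1.1
  have hk : c ∈ sigma.ker := mem_ker_sigma.2 (hc ▸ p.1.2)
  obtain ⟨w, hw⟩ := p.2.2
  obtain ⟨v, hv⟩ := pr1_mem_scal hk
  obtain ⟨y, -, y1, y2⟩ := exists_scalar (v⁻¹ * w).toAdd.1.val (v⁻¹ * w).toAdd.2.val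
  have hy : y ∈ sigma.ker := mem_ker_sigma.2 (y2 ▸ one_mem _)
  refine ⟨⟨c * y, mul_mem hk hy⟩, Prod.ext (Subtype.ext ?_) (Subtype.ext ?_)⟩
  · show pr2 (c * y) = _
    rw [map_mul, hc, y2, mul_one]
  · show pr1 (c * y) = _
    rw [map_mul, ← hv, y1, ← hw]
    show scal v * scal (v⁻¹ * w) = _
    rw [← map_mul, mul_inv_cancel_left]

theorem card_K : Nat.card K = 36 * 3265920 := by
  rw [← sigma.ker.card_mul_index, Subgroup.index_ker, MonoidHom.range_eq_top.2 sigma_surjective,
    Subgroup.card_top, card_psu, Nat.card_congr (MulEquiv.ofBijective _ kerHom_bijective).toEquiv,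
    Nat.card_prod, card_center, ← Nat.card_congr (MonoidHom.ofInjective scal_injective).toEquiv,
    Nat.card_congr Multiplicative.toAdd, Nat.card_prod, Nat.card_zmod]

theorem eq_one_of_quotient {Γ Q Δ : Type} [Group Γ] [Group Q] [Group Δ] [Finite Δ] (hperf : commutator Γ = ⊤)
    (f : Γ →* Q) (hf : Function.Surjective f) (hfk : f.ker ≤ Subgroup.center Γ) {δ : Δ →* Γ}
    (hδ : Cfsg.IsStemExtension δ) : Cfsg.IsStemExtension (f.comp δ) ∧ commutator Δ = ⊤ := by
  have hD : commutator Δ = ⊤ := by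
    have hmap : (commutator Δ).map δ = ⊤ := by
      rw [commutator_def, Subgroup.map_commutator, Subgroup.map_top_of_surjective _ hδ.1,
        ← commutator_def, hperf]
    rw [eq_top_iff]
    intro x _
    have h3 : x ∈ ((commutator Δ).map δ).comap δ := by rw [hmap]; exact Subgroup.mem_top _
    rwa [Subgroup.comap_map_eq_self hδ.2.2] at h3
  exact ⟨⟨hf.comp hδ.1, Multiplier.ker_comp_le_center hD δ hδ.2.1 f hfk, by rw [hD]; exact le_top⟩, hD⟩

theorem three_part : ∃ S : Subgroup A, ¬ 3 ∣ S.index ∧ Schur.Fusion.KillsPart 3 S :=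
  exists_part three Nat.prime_three _ three_cert three_ix three_rels three_sep three_conjs fun h => by
    have h' : (3 : ℕ) ^ 9 ∣ Nat.card K := h.trans (Subgroup.card_range_dvd pr1)
    rw [card_K] at h'
    norm_num at h'

theorem trivial_K : HasCyclicSchurMultiplier K 1 := by
  refine Schur.Fusion.hasTrivialMultiplier fun p hp _ => ⟨⊤, ?_, ?_⟩
  · rw [Subgroup.index_top]; exact fun h => hp.ne_one (Nat.dvd_one.1 h)
  intro Δ _ _ δ hδ z hz hzp _
  have hzk : δ z = 1 := hz
  by_cases h3 : p = 3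
  · subst h3
    obtain ⟨hs, -⟩ := eq_one_of_quotient perfect_K pr1.rangeRestrict pr1.rangeRestrict_surjective
      (by rw [MonoidHom.ker_rangeRestrict]; exact ker_pr1_le.trans ker_sigma_central) hδ
    obtain ⟨S, hS, hk⟩ := three_part
    exact Schur.Fusion.eq_one_of_killsPart hs hp hS hk
      (by rw [MonoidHom.mem_ker, MonoidHom.comp_apply, hzk, map_one]) hzp
  · obtain ⟨hs, hD⟩ := eq_one_of_quotient perfect_K pr2 pr2_surjective
      ((show pr2.ker ≤ sigma.ker from fun x hx => mem_ker_sigma.2 ((MonoidHom.mem_ker.1 hx).symm ▸ one_mem _)).trans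
        ker_sigma_central) hδ
    haveI : CharP K9 3 := by
      obtain ⟨r, hr⟩ := CharP.exists K9
      have h0 : ((3 : ℕ) : K9) = 0 := by decide +kernel
      rcases (Nat.dvd_prime Nat.prime_three).1 ((CharP.cast_eq_zero_iff K9 r 3).1 h0) with rfl | rfl
      · exact absurd rfl (CharP.char_ne_one K9 1)
      · exact hr
    exact MultU62.eq_one_of_tame hp (MultPSU.tame_SU_cross card_K9 Nat.prime_three hp (Ne.symm h3) 4)
      hs.1 hs.2.1 (by rw [hD]; exact Subgroup.mem_top _)
      (by rw [MonoidHom.mem_ker, MonoidHom.comp_apply, hzk, map_one]) hzp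

/-- The multiplier over the field of coded elements. -/
theorem multiplier : HasSchurMultiplier (Cfsg.PSU 4 K9 3) (Multiplicative (ZMod 4 × ZMod 3 × ZMod 3)) := by
  haveI : IsCyclic (Subgroup.center SU4) := Cfsg.Agent.S2089.isCyclic_center card_K9 (by norm_num)
  let e4 : Subgroup.center SU4 ≃* Multiplicative (ZMod 4) :=
    mulEquivOfCyclicCardEq (by rw [card_center, Nat.card_congr Multiplicative.toAdd, Nat.card_zmod])
  exact Schur.PermMult.hasSchurMultiplier_of_cover sigma
    ⟨sigma_surjective, ker_sigma_central, by rw [perfect_K]; exact le_top⟩ trivial_K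
    ((MulEquiv.ofBijective _ kerHom_bijective).trans ((e4.prodCongr (MonoidHom.ofInjective scal_injective).symm).trans
      (MulEquiv.prodMultiplicative _ _).symm))

end Cfsg.Agent.Lib.U43Mult
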