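import Cfsg.Agent.Lib.U43Mult.Model
import Cfsg.Agent.Lib.Schur.PcCollect

/-!
# Certificates inside the image of the cover on the twelve-dimensional modules
-/

set_option autoImplicit false
set_option maxRecDepth 20000
set_option maxHeartbeats 400000

namespace Cfsg.Agent.Lib.U43Mult

open Code
open Cfsg.Agent.Lib.Schur (Fusion.KillsPart)
open Cfsg.Agent.Lib.Schur.PcCollect (Data Equat Vec)

attribute [local irreducible] omU genX mulC applyC

/-- The image on the modules. -/
noncomputable abbrev A : Subgroup GL24 := pr1.range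

/-- A letter in the cover. -/
noncomputable def kgen (g : ℕ) : K :=
  if h : g < 2 then ⟨pairGen ⟨g, h⟩, pairGen_mem _⟩ else 1

/-- A word in the cover. -/
noncomputable def wK (l : List ℕ) : K := (l.map kgen).prod

/-- The code of a word. -/
def wcode (l : List ℕ) : List ℕ := l.foldr (fun g a => mulC (Xc.getD g oneC) a) oneC

theorem wK_cons (g : ℕ) (l : List ℕ) : wK (g :: l) = kgen g * wK l := by simp [wK]

theorem wK_append (u v : List ℕ) : wK (u ++ v) = wK u * wK v := by simp [wK]

theorem has_kgen (g : ℕ) : Has (pr1 (kgen g)) (Xc.getD g oneC) := by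
  by_cases h : g < 2
  · rw [kgen, dif_pos h]
    have e : Xc.getD g oneC = Xc.getD g [] := by
      interval_cases g <;> rfl
    rw [e]
    exact has_genX ⟨g, h⟩
  · rw [kgen, dif_neg h, map_one, List.getD_eq_default _ _ (show Xc.length ≤ g by
      have : Xc.length = 2 := rfl
      omega)]
    exact has_one

theorem has_wK : ∀ l : List ℕ, Has (pr1 (wK l)) (wcode l)
  | [] => by rw [show wK [] = 1 from rfl, map_one]; exact has_one
  | g :: l => by rw [wK_cons, map_mul]; exact (has_kgen g).mul (has_wK l)

/-- A member of the image. -/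
noncomputable def aW (l : List ℕ) : A := pr1.rangeRestrict (wK l)

theorem coe_aW (l : List ℕ) : (aW l : GL24) = pr1 (wK l) := rfl

/-- The code of a word in listed members. -/
def mword (ms : List (List ℕ)) (l : List ℕ) : List ℕ := l.foldr (fun i a => mulC (ms.getD i oneC) a) oneC

/-- The listed matrices belong to the listed words. -/
def ixOk (n : ℕ) (ix ms : List (List ℕ)) : Bool :=
  Nat.beq ix.length n && Nat.beq ms.length n &&
    (List.range n).all fun i => wcode (ix.getD i []) == ms.getD i oneC

/-- The relations hold. -/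
def relsOk (D : Data) (ms : List (List ℕ)) : Bool :=
  (List.range D.n).all fun i => (List.range (i + 1)).all fun j =>
    mword ms (D.lhs i j) == mword ms (D.rhs i j)

/-- The conjugations hold. -/
def conjsOk (D : Data) (ms xs : List (List ℕ)) : Bool :=
  (List.range D.conjs.length).all fun c =>
    let uv := D.conjs.getD c ([], [])
    let x := wcode (xs.getD c [])
    (List.range uv.1.length).all fun k =>
      mulC x (mword ms (uv.1.getD k [])) == mulC (mword ms (uv.2.getD k [])) x

/-- Each generator moves a vector out of a set preserved by the later ones. -/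
def sepOk (D : Data) (ms : List (List ℕ)) (sep : List (ℕ × List ℕ)) : Bool :=
  (List.range D.n).all fun j =>
    let d := sep.getD j (0, [])
    (d.2.all fun t => Nat.blt t (2 ^ 24)) && d.2.contains d.1 &&
      !(d.2.contains (applyC (ms.getD j oneC) d.1)) &&
      (List.range D.n).all fun l => !Nat.blt j l ||
        d.2.all fun t => d.2.contains (applyC (ms.getD l oneC) t)

/-- Data passing the checks kills the part at its prime. -/
theorem exists_part (D : Data) (hp : D.p.Prime) {α : Type} [BEq α] [LawfulBEq α] (V : Vec D.p α)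
    {ix ms xs : List (List ℕ)} {sep : List (ℕ × List ℕ)} {eqs : List (Equat × α)}
    {combos : List (List ℕ)} (hcert : D.certOk V eqs combos = true) (hix : ixOk D.n ix ms = true)
    (hrels : relsOk D ms = true) (hsep : sepOk D ms sep = true) (hconjs : conjsOk D ms xs = true)
    (hidx : ¬ D.p ^ (D.n + 1) ∣ Nat.card A) :
    ∃ S : Subgroup A, ¬ D.p ∣ S.index ∧ Fusion.KillsPart D.p S := by
  simp only [ixOk, Bool.and_eq_true, Nat.beq_eq, List.all_eq_true, List.mem_range, beq_iff_eq] at hix
  obtain ⟨⟨hil, hml⟩, hcode⟩ := hix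
  generalize hg : (fun i => aW (ix.getD i [])) = g
  have hgc : ∀ i, Has (g i : GL24) (ms.getD i oneC) := fun i => by
    rw [← hg]
    show Has (aW (ix.getD i []) : GL24) _
    rw [coe_aW]
    by_cases hi : i < D.n
    · rw [← hcode i hi]; exact has_wK _
    · rw [List.getD_eq_default ix [] (by omega : ix.length ≤ i),
        List.getD_eq_default ms oneC (by omega : ms.length ≤ i)]
      exact has_wK []
  have hel : ∀ l : List ℕ, Has (Data.el g l : A).1 (mword ms l) := by
    intro l
    induction l with
    | nil => exact has_one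
    | cons i l ih =>
      rw [Data.el_cons, Subgroup.coe_mul]
      exact (hgc i).mul ih
  simp only [relsOk, List.all_eq_true, List.mem_range, beq_iff_eq] at hrels
  have hrel : ∀ i < D.n, ∀ j ≤ i, Data.el g (D.lhs i j) = Data.el g (D.rhs i j) := fun i hi j hj =>
    Subtype.ext ((hel _).eq ((hrels i hi j (by omega)) ▸ hel _))
  have hW : ∀ i < D.n, ∀ j ≤ i, ∀ l ∈ D.word i j, j < l ∧ l < D.n := by
    intro i hi j hj l hl
    have hc := hcert
    simp only [Data.certOk, Bool.and_eq_true, List.all_eq_true, List.mem_range, Nat.blt_eq] at hc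
    exact hc.1.1 i hi j (by omega) l hl
  have hstrict : ∀ j < D.n, g j ∉ Subgroup.closure (g '' {l | j < l ∧ l < D.n}) := by
    intro j hj hmem
    simp only [sepOk, List.all_eq_true, List.mem_range, Bool.and_eq_true, Bool.or_eq_true,
      Bool.not_eq_true', Nat.blt_eq, List.contains_iff_mem] at hsep
    obtain ⟨⟨⟨hv, hin⟩, hout⟩, hinv⟩ := hsep j hj
    generalize sep.getD j (0, []) = d at hv hin hout hinv
    have hQ : ∀ x ∈ Subgroup.closure (g '' {l | j < l ∧ l < D.n}), ∀ t ∈ d.2,
        ∃ u ∈ d.2, ((x : GL24) : Mat).mulVec (toVec t) = toVec u := by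
      intro x hx
      rw [← Subgroup.mem_toSubmonoid, Subgroup.closure_toSubmonoid_of_finite] at hx
      induction hx using Submonoid.closure_induction with
      | mem y hy =>
        obtain ⟨l, ⟨hjl, hl⟩, rfl⟩ := hy
        intro t ht
        refine ⟨_, (hinv l hl).resolve_left (fun hn => ?_) t ht, (hgc l).mulVec t⟩
        rw [Bool.eq_false_iff, ne_eq, Nat.blt_eq] at hn
        exact hn hjl
      | one => intro t ht; exact ⟨t, ht, by simp⟩
      | mul a b _ _ ha hb =>
        intro t ht
        obtain ⟨u, hu, he⟩ := hb t ht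
        obtain ⟨w, hw, he'⟩ := ha u hu
        exact ⟨w, hw, by rw [Subgroup.coe_mul, Units.val_mul, ← Matrix.mulVec_mulVec, he, he']⟩
    obtain ⟨u, hu, he⟩ := hQ _ hmem d.1 hin
    rw [(hgc j).mulVec] at he
    have e := toVec_inj (applyC_lt _ _ (ok_spec (hgc j).1).2) (hv u hu) he
    have hmem' : d.2.contains (applyC (ms.getD j oneC) d.1) = true := by
      rw [List.contains_iff_mem, e]; exact hu
    exact Bool.false_ne_true (hout.symm.trans hmem')
  refine ⟨Subgroup.closure (g '' {l | l < D.n}), fun hd => hidx ?_,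
    Cfsg.Agent.Lib.Schur.PcCollect.killsPart_of_cert _ D hp V g hcert hrel hstrict ?_ hidx⟩
  · rw [← (Subgroup.closure (g '' {l | l < D.n})).card_mul_index,
      Cfsg.Agent.Lib.Schur.PcCollect.card_series D hp g hW hrel hstrict, pow_succ]
    exact Nat.mul_dvd_mul_left _ hd
  · intro uv huv
    obtain ⟨c, hcl, rfl⟩ := List.getElem_of_mem huv
    simp only [conjsOk, List.all_eq_true, List.mem_range, beq_iff_eq] at hconjs
    refine ⟨aW (xs.getD c []), fun k hk => ?_⟩
    have hh := hconjs c hcl k (by rwa [List.getD_eq_getElem _ _ hcl])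
    rw [List.getD_eq_getElem _ _ hcl] at hh
    rw [mul_inv_eq_iff_eq_mul]
    exact Subtype.ext (((coe_aW _) ▸ has_wK _ : Has (aW (xs.getD c []) : GL24) _).mul (hel _) |>.eq
      (hh ▸ (hel _).mul ((coe_aW _) ▸ has_wK _ : Has (aW (xs.getD c []) : GL24) _)))

end Cfsg.Agent.Lib.U43Mult
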