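import Cfsg.Agent.Lib.U43Mult.Code
import Cfsg.Agent.Lib.U43Mult.Data
import Cfsg.Agent.Lib.LatticeUnitary.U4Cert

/-!
# Checks of the data of the ninefold cover of `PSU(4,3)`
-/

set_option autoImplicit false
set_option Elab.async false
set_option maxRecDepth 20000

namespace Cfsg.Agent.Lib.U43Mult

open Code
open Cfsg.Agent.Lib.LatticeUnitary.U4 (atomPerm)

/-- The scalar on both blocks. -/
def omC : List ℕ := mulC omA omB

/-- A power of a code. -/
def powC (A : List ℕ) : ℕ → List ℕ
  | 0 => oneC
  | n + 1 => mulC A (powC A n)

/-- The scalars. -/
def scalC (a b : ℕ) : List ℕ := mulC (powC omA a) (powC omB b)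

/-- The vectors of a line. -/
def lnV (i : ℕ) : List ℕ := lns.getD i []

/-- The image of a line under a generator. -/
def lnP (g i : ℕ) : ℕ := (lnPerm.getD g []).getD i 0

/-- A line is attached to an isotropic line. -/
def inMask (k i : ℕ) : Bool := (masks.getD k 0).testBit i

/-- The generators invert, commute with the scalars and permute the lines. -/
def genOk : Bool := (List.range 2).all fun g =>
  let X := Xc.getD g []
  let Y := Xi.getD g []
  ok X && ok Y && (mulC X Y == oneC) && (mulC Y X == oneC) && (mulC X omA == mulC omA X) &&
    (mulC X omB == mulC omB X) &&
    ((List.range 252).all fun i => Nat.blt (lnP g i) 252 &&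
      (lnV i).all fun v => (lnV (lnP g i)).contains (applyC X v)) &&
    ((List.range 112).all fun k => (List.range 252).all fun i =>
      !inMask k i || inMask (atomPerm g k) (lnP g i))

theorem genOk_true : genOk = true := by decide +kernel

/-- The lines attached to all isotropic lines through a line meet in it. -/
def sepLn : Bool := (List.range 252).all fun i =>
  Nat.beq ((List.range 112).foldl (fun a k => if inMask k i then a &&& masks.getD k 0 else a) (2 ^ 252 - 1))
    (2 ^ i)

theorem sepLn_true : sepLn = true := by decide +kernel

/-- Distinct isotropic lines have incomparable sets of lines. -/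
def sepMask : Bool := (List.range 112).all fun k => (List.range 112).all fun l =>
  Nat.beq k l || (List.range 252).any fun i => inMask k i && !inMask l i

theorem sepMask_true : sepMask = true := by decide +kernel

/-- Distinct lines share no vector. -/
def disjLn : Bool := (List.range 252).all fun i => (List.range 252).all fun j =>
  Nat.beq i j || (lnV i).all fun v => !(lnV j).contains v

theorem disjLn_true : disjLn = true := by decide +kernel

/-- The vectors are short, and the lines are their multiples by the scalars. -/
def lnOk : Bool := (List.range 252).all fun i => (lnV i).all fun v =>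
  Nat.blt v (2 ^ 24) && (lnV i).contains (applyC omA v) && (lnV i).contains (applyC omB v)

theorem lnOk_true : lnOk = true := by decide +kernel

theorem om_ok : (ok omA && ok omB && (powC omA 3 == oneC) && (powC omB 3 == oneC) &&
    (mulC omA omB == mulC omB omA) &&
    (List.range 3).all fun a => (List.range 3).all fun b => (List.range 3).all fun c => (List.range 3).all fun d =>
      (Nat.beq a c && Nat.beq b d) || !(scalC a b == scalC c d)) = true := by decide +kernel

/-- All choices of one vector on each of some lines. -/
def choices : List ℕ → List (List ℕ)
  | [] => [[]]
  | i :: is => (choices is).flatMap fun u => (lnV i).map fun v => v :: u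

/-- The frame of a block. -/
def frameI (c : ℕ) : List ℕ := frameIx.getD c []

/-- The vectors on the frame of a block. -/
def frameV (c : ℕ) : List ℕ := frameVec.getD c []

/-- Images of the frame with the sum on the seventh line come from a scalar. -/
def frameOk (c : ℕ) : Bool :=
  let bs := (frameV c).take 6
  ((List.range 7).all fun j => Nat.blt ((frameI c).getD j 0) 252 && (lnV ((frameI c).getD j 0)).contains ((frameV c).getD j 0)) &&
  Nat.beq ((frameV c).getD 6 0) (bs.foldr (fun v a => v ^^^ a) 0) &&
  (choices ((frameI c).take 6)).all fun us =>
    !((lnV ((frameI c).getD 6 0)).contains (us.foldr (fun v a => v ^^^ a) 0)) ||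
      (List.range 3).any fun a => us == bs.map fun v => applyC (powC (if Nat.beq c 0 then omA else omB) a) v

theorem frameOk_zero : frameOk 0 = true := by decide +kernel

theorem frameOk_one : frameOk 1 = true := by decide +kernel

/-- The basis of the frames is one. -/
def frameMatOk : Bool :=
  ok frameMat && ok frameInv && (mulC frameMat frameInv == oneC) &&
    (List.range 24).all fun k =>
      let v := (frameV (k / 12)).getD (k % 12 / 2) 0
      Nat.beq (frameMat.getD k 0) (if k % 2 = 0 then v else applyC omC v) &&
      ((List.range 3).all fun a => Nat.beq (applyC (powC (if k < 12 then omB else omA) a) v) v)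

theorem frameMatOk_true : frameMatOk = true := by decide +kernel

end Cfsg.Agent.Lib.U43Mult
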