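import Mathlib

/-!
# Matrices over two elements coded by the images of the basis vectors

A code of a `24 x 24` matrix lists the images of the standard vectors as numbers below `2 ^ 24`.
-/

set_option autoImplicit false

namespace Cfsg.Agent.Lib.U43Mult.Code

/-- The matrices. -/
abbrev Mat : Type := Matrix (Fin 24) (Fin 24) (ZMod 2)

/-- The invertible matrices. -/
abbrev GL24 : Type := Matˣ

/-- A bit as a scalar. -/
def bit2 (b : Bool) : ZMod 2 := if b then 1 else 0

theorem bit2_xor (a b : Bool) : bit2 (a ^^ b) = bit2 a + bit2 b := by cases a <;> cases b <;> decide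

theorem bit2_inj {a b : Bool} (h : bit2 a = bit2 b) : a = b := by
  revert h; cases a <;> cases b <;> decide

/-- The image of a vector. -/
def applyC : List ℕ → ℕ → ℕ
  | [], _ => 0
  | a :: A, v => if v.testBit 0 then a ^^^ applyC A (v / 2) else applyC A (v / 2)

/-- The product. -/
def mulC (A B : List ℕ) : List ℕ := B.map (applyC A)

/-- The code of the identity. -/
def oneC : List ℕ := (List.range 24).map fun k => 2 ^ k

/-- A list is a code. -/
def ok (A : List ℕ) : Bool := Nat.beq A.length 24 && A.all fun a => Nat.blt a (2 ^ 24)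

/-- The matrix of a code. -/
def toMat (A : List ℕ) : Mat := Matrix.of fun i j => bit2 ((A.getD j.val 0).testBit i.val)

/-- The vector of a number. -/
def toVec (v : ℕ) : Fin 24 → ZMod 2 := fun i => bit2 (v.testBit i.val)

theorem ok_spec {A : List ℕ} (h : ok A = true) : A.length = 24 ∧ ∀ a ∈ A, a < 2 ^ 24 := by
  simpa [ok, Nat.beq_eq, List.all_eq_true, Nat.blt_eq] using h

theorem testBit_applyC : ∀ (A : List ℕ) (v i : ℕ), bit2 ((applyC A v).testBit i) =
    ∑ k ∈ Finset.range A.length, bit2 ((A.getD k 0).testBit i) * bit2 (v.testBit k)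
  | [], v, i => by simp [applyC, bit2]
  | a :: A, v, i => by
    rw [List.length_cons, Finset.sum_range_succ']
    simp only [List.getD_cons_succ, List.getD_cons_zero, Nat.testBit_succ]
    rw [← testBit_applyC A (v / 2) i, applyC]
    cases h : v.testBit 0
    · simp [bit2]
    · rw [if_pos rfl, Nat.testBit_xor, bit2_xor, show bit2 true = 1 from rfl, mul_one, add_comm]

theorem toVec_applyC {A : List ℕ} (hA : A.length = 24) (v : ℕ) :
    toVec (applyC A v) = (toMat A).mulVec (toVec v) := by
  funext i
  rw [toVec, testBit_applyC, hA, ← Fin.sum_univ_eq_sum_range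
    (fun k => bit2 ((A.getD k 0).testBit i.val) * bit2 (v.testBit k))]
  rfl

theorem applyC_lt : ∀ (A : List ℕ) (v : ℕ), (∀ a ∈ A, a < 2 ^ 24) → applyC A v < 2 ^ 24
  | [], _, _ => Nat.two_pow_pos 24
  | a :: A, v, h => by
    have h' := applyC_lt A (v / 2) fun x hx => h x (List.mem_cons_of_mem _ hx)
    rw [applyC]
    split_ifs
    · exact Nat.xor_lt_two_pow (h a List.mem_cons_self) h'
    · exact h'

theorem toVec_inj {v w : ℕ} (hv : v < 2 ^ 24) (hw : w < 2 ^ 24) (h : toVec v = toVec w) : v = w := by
  refine Nat.eq_of_testBit_eq fun i => ?_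
  by_cases hi : i < 24
  · exact bit2_inj (congrFun h ⟨i, hi⟩)
  · rw [Nat.testBit_lt_two_pow (lt_of_lt_of_le hv (Nat.pow_le_pow_right (by norm_num) (by omega))),
      Nat.testBit_lt_two_pow (lt_of_lt_of_le hw (Nat.pow_le_pow_right (by norm_num) (by omega)))]

theorem toMat_mulC {A B : List ℕ} (hA : ok A = true) (hB : ok B = true) :
    toMat (mulC A B) = toMat A * toMat B := by
  ext i j
  have hj : j.val < B.length := by rw [(ok_spec hB).1]; exact j.2
  have e : (mulC A B).getD j.val 0 = applyC A (B.getD j.val 0) := by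
    rw [mulC, List.getD_eq_getElem _ _ (by simpa using hj), List.getElem_map, List.getD_eq_getElem _ _ hj]
  show bit2 (((mulC A B).getD j.val 0).testBit i.val) = _
  rw [e]
  exact congrFun (toVec_applyC (ok_spec hA).1 (B.getD j.val 0)) i

theorem ok_mulC {A B : List ℕ} (hA : ok A = true) (hB : ok B = true) : ok (mulC A B) = true := by
  simp only [ok, mulC, List.length_map, Bool.and_eq_true, Nat.beq_eq, List.all_eq_true, List.mem_map,
    Nat.blt_eq]
  exact ⟨(ok_spec hB).1, by rintro a ⟨b, -, rfl⟩; exact applyC_lt A b (ok_spec hA).2⟩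

theorem ok_oneC : ok oneC = true := by decide +kernel

theorem toMat_oneC : toMat oneC = 1 := by decide +kernel

theorem toMat_inj {A B : List ℕ} (hA : ok A = true) (hB : ok B = true) (h : toMat A = toMat B) : A = B := by
  obtain ⟨la, ba⟩ := ok_spec hA
  obtain ⟨lb, bb⟩ := ok_spec hB
  refine List.ext_getElem (by rw [la, lb]) fun k h1 h2 => ?_
  refine toVec_inj (ba _ (List.getElem_mem h1)) (bb _ (List.getElem_mem h2)) (funext fun i => ?_)
  have := congrFun (congrFun h i) ⟨k, la ▸ h1⟩
  simp only [toMat, Matrix.of_apply] at this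
  rw [List.getD_eq_getElem _ _ h1, List.getD_eq_getElem _ _ h2] at this
  exact this

/-- An invertible matrix with a given code. -/
def Has (x : GL24) (A : List ℕ) : Prop := ok A = true ∧ (x : Mat) = toMat A

theorem has_one : Has 1 oneC := ⟨ok_oneC, toMat_oneC.symm⟩

theorem Has.mul {x y : GL24} {A B : List ℕ} (hx : Has x A) (hy : Has y B) : Has (x * y) (mulC A B) :=
  ⟨ok_mulC hx.1 hy.1, by rw [Units.val_mul, hx.2, hy.2, toMat_mulC hx.1 hy.1]⟩

theorem Has.eq {x y : GL24} {A : List ℕ} (hx : Has x A) (hy : Has y A) : x = y :=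
  Units.ext (hx.2.trans hy.2.symm)

theorem Has.code_eq {x : GL24} {A B : List ℕ} (ha : Has x A) (hb : Has x B) : A = B :=
  toMat_inj ha.1 hb.1 (ha.2.symm.trans hb.2)

theorem Has.mulVec {x : GL24} {A : List ℕ} (hx : Has x A) (v : ℕ) :
    (x : Mat).mulVec (toVec v) = toVec (applyC A v) := by
  rw [hx.2, toVec_applyC (ok_spec hx.1).1]

end Cfsg.Agent.Lib.U43Mult.Code
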