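import Cfsg.Agent.Lib.U43Mult.Model

/-!
# The kernel of the cover: scalars on both modules and the centre of `SU(4,3)`
-/

set_option autoImplicit false
set_option maxRecDepth 20000
set_option maxHeartbeats 400000

namespace Cfsg.Agent.Lib.U43Mult

open Cfsg Code
open Cfsg.Agent.Lib.U33 (K9)
open Cfsg.Agent.Lib.LatticeUnitary.U4 (line mem_line)

attribute [local irreducible] omU genX mulC applyC

theorem card_K9 : Fintype.card K9 = 3 ^ 2 := U33.card_k9

theorem has_pow {x : GL24} {A : List ℕ} (h : Has x A) : ∀ n : ℕ, Has (x ^ n) (powC A n)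
  | 0 => by rw [pow_zero]; exact has_one
  | n + 1 => by rw [pow_succ']; exact h.mul (has_pow h n)

theorem omU_pow_three (b : Bool) : omU b ^ 3 = 1 := by
  have h := om_ok
  simp only [Bool.and_eq_true, beq_iff_eq] at h
  refine (has_pow (has_omU b) 3).eq ?_
  cases b
  · rw [show powC (cond false omA omB) 3 = oneC from h.1.1.2]; exact has_one
  · rw [show powC (cond true omA omB) 3 = oneC from h.1.1.1.2]; exact has_one

theorem omU_comm : omU true * omU false = omU false * omU true := by
  have h := om_ok
  simp only [Bool.and_eq_true, beq_iff_eq] at h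
  exact ((has_omU true).mul (has_omU false)).eq (h.1.2 ▸ (has_omU false).mul (has_omU true))

/-- A scalar on each module. -/
noncomputable def sU (a b : ℕ) : GL24 := omU true ^ a * omU false ^ b

theorem has_sU (a b : ℕ) : Has (sU a b) (scalC a b) :=
  (has_pow (has_omU true) a).mul (has_pow (has_omU false) b)

theorem pow_mul_pow_of {M : Type*} [Monoid M] {x y : Mˣ} (h : x * y = y * x) (a b : ℕ) :
    x ^ a * y ^ b = y ^ b * x ^ a := (Commute.pow_pow h a b).eq

theorem pow_mul_mul_of {M : Type*} [Monoid M] {x y : Mˣ} (h : x * y = y * x) (a b : ℕ) :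
    x ^ a * y ^ b * (x * y) = x * y * (x ^ a * y ^ b) := by
  have hc : Commute x y := h
  exact ((((Commute.refl x).mul_right hc).pow_left a).mul_left ((hc.symm.mul_right (Commute.refl y)).pow_left b)).eq

theorem sU_comm (a b : ℕ) : sU a b = omU false ^ b * omU true ^ a := pow_mul_pow_of omU_comm a b

theorem sU_omega (a b : ℕ) : sU a b * (omU true * omU false) = omU true * omU false * sU a b :=
  pow_mul_mul_of omU_comm a b

theorem has_omega : Has (omU true * omU false) omC := (has_omU true).mul (has_omU false)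

theorem line_of_mem {i j : ℕ} (hi : i < 252) (hj : j < 252) {v : ℕ} (h1 : v ∈ lnV i) (h2 : v ∈ lnV j) :
    i = j := by
  have h := List.all_eq_true.1 (List.all_eq_true.1 disjLn_true i (List.mem_range.2 hi)) j (List.mem_range.2 hj)
  simp only [Bool.or_eq_true, Nat.beq_eq, List.all_eq_true, Bool.not_eq_true'] at h
  rcases h with h | h
  · exact h
  · exact absurd (List.contains_iff_mem.2 h2) (by rw [h v h1]; exact Bool.false_ne_true)

theorem lnV_spec {i v : ℕ} (hi : i < 252) (hv : v ∈ lnV i) :
    v < 2 ^ 24 ∧ applyC omA v ∈ lnV i ∧ applyC omB v ∈ lnV i := by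
  have h := List.all_eq_true.1 (List.all_eq_true.1 lnOk_true i (List.mem_range.2 hi)) v hv
  simpa [Bool.and_eq_true, List.contains_iff_mem, and_assoc] using h

theorem fold_testBit (j : ℕ) (c : ℕ → Bool) : ∀ (ks : List ℕ) (a : ℕ), a.testBit j = true →
    (∀ k ∈ ks, c k = true → (masks.getD k 0).testBit j = true) →
      (ks.foldl (fun a k => if c k then a &&& masks.getD k 0 else a) a).testBit j = true
  | [], a, ha, _ => ha
  | k :: ks, a, ha, h => by
    refine fold_testBit j c ks _ ?_ fun l hl => h l (List.mem_cons_of_mem _ hl)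
    beta_reduce
    split_ifs with hc
    · rw [Nat.testBit_and, ha, h k List.mem_cons_self hc]; rfl
    · exact ha

/-- A scalar element fixes the isotropic lines. -/
theorem act_of_scalar {x : K} {a b : ℕ} (h : Has (pr1 x) (scalC a b)) (k : Fin 112) : act x k = k := by
  have hln := lnAct_mem x
  have hmask := lnAct_mask x
  have hfix : ∀ i, lnAct x i = i := by
    intro i
    have hne : lnV i.1 ≠ [] := by
      have : ∀ i : Fin 252, lnV i.1 ≠ [] := by decide +kernel
      exact this i
    obtain ⟨v, hv⟩ := List.exists_mem_of_ne_nil _ hne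
    obtain ⟨u, hu, e⟩ := hln i hv
    refine Fin.ext (line_of_mem (Fin.is_lt _) i.2 hu ?_)
    have hpow : ∀ (c : Bool) (n : ℕ), ∀ w ∈ lnV i.1, applyC (powC (cond c omA omB) n) w ∈ lnV i.1 := by
      intro c n
      induction n with
      | zero =>
        intro w hw
        have e0 : applyC oneC w = w := toVec_inj (applyC_lt _ _ (ok_spec ok_oneC).2) (lnV_spec i.2 hw).1
          (by rw [toVec_applyC (ok_spec ok_oneC).1, toMat_oneC, Matrix.one_mulVec])
        show applyC oneC w ∈ _
        rw [e0]; exact hw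
      | succ n ih =>
        intro w hw
        have hA : Has (omU c) (cond c omA omB) := has_omU c
        have hn := has_pow hA n
        have e1 : applyC (powC (cond c omA omB) (n + 1)) w = applyC (cond c omA omB)
            (applyC (powC (cond c omA omB) n) w) := by
          refine toVec_inj (applyC_lt _ _ (ok_spec (has_pow hA (n + 1)).1).2) (applyC_lt _ _ (ok_spec hA.1).2) ?_
          rw [← (has_pow hA (n + 1)).mulVec, pow_succ', Units.val_mul, ← Matrix.mulVec_mulVec, hn.mulVec,
            hA.mulVec]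
        rw [e1]
        cases c
        exacts [(lnV_spec i.2 (ih w hw)).2.2, (lnV_spec i.2 (ih w hw)).2.1]
    have hA := has_pow (has_omU true) a
    have hB := has_pow (has_omU false) b
    have e' : u = applyC (powC omA a) (applyC (powC omB b) v) := by
      refine toVec_inj (lnV_spec (Fin.is_lt _) hu).1 (applyC_lt _ _ (ok_spec hA.1).2) ?_
      rw [← e, (has_sU a b).eq h |>.symm, sU, Units.val_mul, ← Matrix.mulVec_mulVec, hB.mulVec, hA.mulVec]
      rfl
    rw [e']
    exact hpow true a _ (hpow false b v hv)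
  by_contra hne
  have h' := List.all_eq_true.1 (List.all_eq_true.1 sepMask_true k.1 (List.mem_range.2 k.2)) (act x k).1
    (List.mem_range.2 (Fin.is_lt _))
  simp only [Bool.or_eq_true, Nat.beq_eq, List.any_eq_true, List.mem_range, Bool.and_eq_true,
    Bool.not_eq_true'] at h'
  rcases h' with e | ⟨i, hi, h1, h2⟩
  · exact hne (Fin.ext e).symm
  · have h3 := hmask k ⟨i, hi⟩ h1
    rw [hfix ⟨i, hi⟩] at h3
    exact Bool.false_ne_true (h2.symm.trans h3)

theorem mem_choices {f : ℕ → ℕ} : ∀ (is : List ℕ) (vs : List ℕ), List.Forall₂ (fun i v => f v ∈ lnV i) is vs →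
    vs.map f ∈ choices is
  | _, _, .nil => by simp [choices]
  | i :: is, v :: vs, .cons h hs => by
    simp only [choices, List.map_cons, List.mem_flatMap, List.mem_map]
    exact ⟨_, mem_choices is vs hs, f v, h, rfl⟩

theorem toVec_zero : toVec 0 = 0 := by
  funext i; simp [toVec, bit2]

theorem toVec_xor (v w : ℕ) : toVec (v ^^^ w) = toVec v + toVec w := by
  funext i; simp [toVec, Nat.testBit_xor, bit2_xor]

theorem mulVec_fold (M : Mat) (f : ℕ → ℕ) :
    ∀ l : List ℕ, (∀ v ∈ l, M.mulVec (toVec v) = toVec (f v)) →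
      M.mulVec (toVec (l.foldr (fun v a => v ^^^ a) 0)) = toVec ((l.map f).foldr (fun v a => v ^^^ a) 0)
  | [], _ => by simp [toVec_zero]
  | v :: l, h => by
    rw [List.foldr_cons, List.map_cons, List.foldr_cons, toVec_xor, toVec_xor, Matrix.mulVec_add,
      h v List.mem_cons_self, mulVec_fold M f l fun w hw => h w (List.mem_cons_of_mem _ hw)]

theorem base_eq {x A B : GL24} {cA cB : List ℕ} {v : ℕ} (hA : Has A cA) (hB : Has B cB)
    (hfix : applyC cB v = v) (hx : (x : Mat).mulVec (toVec v) = toVec (applyC cA v)) :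
    (x : Mat).mulVec (toVec v) = ((A * B : GL24) : Mat).mulVec (toVec v) := by
  rw [Units.val_mul, ← Matrix.mulVec_mulVec, hB.mulVec, hfix, hA.mulVec, hx]

theorem frame_scalar {x : GL24}
    (hfix : ∀ i : Fin 252, ∀ v ∈ lnV i.1, ∃ u ∈ lnV i.1, (x : Mat).mulVec (toVec v) = toVec u) {c : ℕ}
    (hc : c < 2) : ∃ a < 3, ∀ j < 6, (x : Mat).mulVec (toVec ((frameV c).getD j 0)) =
      toVec (applyC (powC (if Nat.beq c 0 then omA else omB) a) ((frameV c).getD j 0)) := by
  let f : ℕ → ℕ := fun v => if hv : ∃ u, u < 2 ^ 24 ∧ (x : Mat).mulVec (toVec v) = toVec u then hv.choose else 0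
  have hf : ∀ i < 252, ∀ v ∈ lnV i, f v ∈ lnV i ∧ (x : Mat).mulVec (toVec v) = toVec (f v) := by
    intro i hi v hv
    obtain ⟨u, hu, e⟩ := hfix ⟨i, hi⟩ v hv
    have hex : ∃ u, u < 2 ^ 24 ∧ (x : Mat).mulVec (toVec v) = toVec u := ⟨u, (lnV_spec hi hu).1, e⟩
    have ef : f v = u := by
      rw [show f v = hex.choose from dif_pos hex]
      exact toVec_inj hex.choose_spec.1 (lnV_spec hi hu).1 (hex.choose_spec.2.symm.trans e)
    rw [ef]; exact ⟨hu, e⟩
  have hok : frameOk c = true := by
    interval_cases c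
    exacts [frameOk_zero, frameOk_one]
  simp only [frameOk, Bool.and_eq_true, List.all_eq_true, List.mem_range, Nat.blt_eq, List.contains_iff_mem,
    Bool.or_eq_true, Bool.not_eq_true', List.any_eq_true, beq_iff_eq] at hok
  obtain ⟨⟨hmem, hsum⟩, hch⟩ := hok
  have hlen : (frameI c).length = 7 ∧ (frameV c).length = 7 := by interval_cases c <;> exact ⟨rfl, rfl⟩
  have hv : ∀ j < 6, f ((frameV c).getD j 0) ∈ lnV ((frameI c).getD j 0) ∧
      (x : Mat).mulVec (toVec ((frameV c).getD j 0)) = toVec (f ((frameV c).getD j 0)) := fun j hj =>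
    hf _ (hmem j (by omega)).1 _ (hmem j (by omega)).2
  have hin : ((frameV c).take 6).map f ∈ choices ((frameI c).take 6) := by
    refine mem_choices _ _ (List.forall₂_iff_get.2 ⟨by simp [hlen], fun j h1 h2 => ?_⟩)
    have hj : j < 6 := by simp only [List.length_take, hlen] at h1; omega
    have := (hv j hj).1
    rw [List.getD_eq_getElem _ _ (by omega), List.getD_eq_getElem _ _ (by omega)] at this
    simpa [List.getElem_take] using this
  have h7 := hf _ (hmem 6 (by norm_num)).1 _ (hmem 6 (by norm_num)).2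
  have esum : f ((frameV c).getD 6 0) = (((frameV c).take 6).map f).foldr (fun v a => v ^^^ a) 0 := by
    refine toVec_inj (lnV_spec (hmem 6 (by norm_num)).1 h7.1).1 ?_ ?_
    · have hb : ∀ l : List ℕ, (∀ v ∈ l, v < 2 ^ 24) → l.foldr (fun v a => v ^^^ a) 0 < 2 ^ 24 := by
        intro l
        induction l with
        | nil => intro _; exact Nat.two_pow_pos 24
        | cons v l ih =>
          intro hl
          exact Nat.xor_lt_two_pow (hl v List.mem_cons_self) (ih fun w hw => hl w (List.mem_cons_of_mem _ hw))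
      refine hb _ fun w hw => ?_
      obtain ⟨v, hvm, rfl⟩ := List.mem_map.1 hw
      obtain ⟨j, hj, rfl⟩ := List.getElem_of_mem hvm
      have hj6 : j < 6 := by simp only [List.length_take, hlen] at hj; omega
      have := (hv j hj6).1
      rw [List.getD_eq_getElem _ _ (by omega : j < (frameV c).length)] at this
      rw [List.getElem_take]
      exact (lnV_spec (hmem j (by omega)).1 this).1
    · rw [← h7.2, Nat.eq_of_beq_eq_true hsum]
      refine mulVec_fold _ f _ fun v hvm => ?_
      obtain ⟨j, hj, rfl⟩ := List.getElem_of_mem hvm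
      have hj6 : j < 6 := by simp only [List.length_take, hlen] at hj; omega
      have := (hv j hj6).2
      rw [List.getD_eq_getElem _ _ (by omega : j < (frameV c).length)] at this
      rw [List.getElem_take]; exact this
  rcases hch _ hin with hbad | ⟨a, ha, e⟩
  · have ht := List.contains_iff_mem.2 h7.1
    rw [esum, hbad] at ht
    exact absurd ht Bool.false_ne_true
  · refine ⟨a, ha, fun j hj => ?_⟩
    have hmem' : (frameV c).getD j 0 ∈ (frameV c).take 6 := by
      rw [List.getD_eq_getElem _ _ (show j < (frameV c).length by omega)]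
      refine List.mem_iff_getElem.2 ⟨j, ?_, List.getElem_take⟩
      rw [List.length_take, hlen.2]
      omega
    rw [(hv j hj).2, List.map_inj_left.1 e _ hmem']

theorem frame_key {x : GL24} (hωx : x * (omU true * omU false) = omU true * omU false * x) {a b : ℕ}
    (ha : a < 3) (hb : b < 3)
    (hA : ∀ j < 6, (x : Mat).mulVec (toVec ((frameV 0).getD j 0)) =
      toVec (applyC (powC omA a) ((frameV 0).getD j 0)))
    (hB : ∀ j < 6, (x : Mat).mulVec (toVec ((frameV 1).getD j 0)) =
      toVec (applyC (powC omB b) ((frameV 1).getD j 0)))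
    {k : ℕ} (hk : k < 24) :
    (x : Mat).mulVec (toVec (frameMat.getD k 0)) = (sU a b : Mat).mulVec (toVec (frameMat.getD k 0)) := by
  have hm := frameMatOk_true
  simp only [frameMatOk, Bool.and_eq_true, beq_iff_eq, List.all_eq_true, List.mem_range] at hm
  obtain ⟨-, hcol⟩ := hm
  obtain ⟨hk1, hk2⟩ := hcol k hk
  have hbase : (x : Mat).mulVec (toVec ((frameV (k / 12)).getD (k % 12 / 2) 0)) =
      (sU a b : Mat).mulVec (toVec ((frameV (k / 12)).getD (k % 12 / 2) 0)) := by
    have hj : k % 12 / 2 < 6 := by omega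
    have hc : Commute (omU true) (omU false) := omU_comm
    have hA' : Has (omU true ^ a) (powC omA a) := has_pow (has_omU true) a
    have hB' : Has (omU false ^ b) (powC omB b) := has_pow (has_omU false) b
    by_cases h12 : k < 12
    · rw [show k / 12 = 0 by omega] at hk2 ⊢
      have h2 := Nat.eq_of_beq_eq_true (hk2 b hb)
      rw [if_pos h12] at h2
      have hx := hA _ hj
      rw [sU]
      exact base_eq hA' hB' h2 hx
    · rw [show k / 12 = 1 by omega] at hk2 ⊢
      have h2 := Nat.eq_of_beq_eq_true (hk2 a ha)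
      rw [if_neg h12] at h2
      have hx := hB _ hj
      rw [sU_comm]
      exact base_eq hB' hA' h2 hx
  rw [Nat.eq_of_beq_eq_true hk1]
  by_cases hp : k % 2 = 0
  · rw [if_pos hp]; exact hbase
  · rw [if_neg hp, ← has_omega.mulVec, Matrix.mulVec_mulVec, Matrix.mulVec_mulVec, ← Units.val_mul, ← Units.val_mul,
      hωx, sU_omega, Units.val_mul, Units.val_mul, ← Matrix.mulVec_mulVec, ← Matrix.mulVec_mulVec, hbase]
    simp only [Units.val_mul, ← Matrix.mulVec_mulVec]

/-- An element fixing the isotropic lines is a scalar on the modules. -/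
theorem scalar_of_act {x : K} (h : ∀ k, act x k = k) : ∃ a < 3, ∃ b < 3, pr1 x = sU a b := by
  have hln := lnAct_mem x
  have hmask := lnAct_mask x
  have hfix : ∀ i : Fin 252, ∀ v ∈ lnV i.1, ∃ u ∈ lnV i.1, (pr1 x : Mat).mulVec (toVec v) = toVec u := by
    intro i v hv
    obtain ⟨u, hu, e⟩ := hln i hv
    generalize hj : lnAct x i = j at hu
    have h0 := List.all_eq_true.1 sepLn_true i.1 (List.mem_range.2 i.2)
    have h1 : ((List.range 112).foldl (fun a k => if inMask k i.1 then a &&& masks.getD k 0 else a)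
        (2 ^ 252 - 1)).testBit j.1 = true := by
      refine fold_testBit j.1 (fun k => inMask k i.1) _ _ ?_ fun k hk hki => ?_
      · rw [Nat.testBit_two_pow_sub_one, decide_eq_true_eq]; exact j.2
      · have h3 := hmask ⟨k, List.mem_range.1 hk⟩ i hki
        rw [h, hj] at h3
        exact h3
    rw [Nat.eq_of_beq_eq_true h0, Nat.testBit_two_pow, decide_eq_true_eq] at h1
    exact ⟨u, h1 ▸ hu, e⟩
  obtain ⟨a, ha, hA⟩ := frame_scalar hfix (c := 0) (by norm_num)
  obtain ⟨b, hb, hB⟩ := frame_scalar hfix (c := 1) (by norm_num)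
  rw [if_pos (show Nat.beq 0 0 = true from rfl)] at hA
  rw [if_neg (show ¬ Nat.beq 1 0 = true from Bool.false_ne_true)] at hB
  refine ⟨a, ha, b, hb, ?_⟩
  have hm := frameMatOk_true
  simp only [frameMatOk, Bool.and_eq_true, beq_iff_eq] at hm
  obtain ⟨⟨⟨hF, hFi⟩, hinv⟩, -⟩ := hm
  have hωx : pr1 x * (omU true * omU false) = omU true * omU false * pr1 x := by
    rw [← mul_assoc, pr1_comm, mul_assoc, pr1_comm, ← mul_assoc]
  have hprod : (pr1 x : Mat) * toMat frameMat = (sU a b : Mat) * toMat frameMat := by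
    ext i k
    exact congrFun (frame_key hωx ha hb hA hB k.2) i
  refine Units.ext ?_
  have h1 : toMat frameMat * toMat frameInv = 1 := by rw [← toMat_mulC hF hFi, hinv, toMat_oneC]
  calc (pr1 x : Mat) = (pr1 x : Mat) * toMat frameMat * toMat frameInv := by rw [mul_assoc, h1, mul_one]
    _ = _ := by rw [hprod, mul_assoc, h1, mul_one]

end Cfsg.Agent.Lib.U43Mult
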