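import Cfsg.Agent.Lib.U43Mult.Checks
import Cfsg.Agent.Lib.LatticeUnitary.U4

/-!
# The cover of `PSU(4,3)` with centre of order thirty-six

Pairs of a member of `GL(24,2)` and a member of `SU(4,3)` inducing the same permutation of the 112 totally
isotropic lines, each of which carries ninety of the lines of the twofold twelve-dimensional module.
-/

set_option autoImplicit false
set_option maxRecDepth 20000

namespace Cfsg.Agent.Lib.U43Mult

open Cfsg Code
open Cfsg.Agent.Lib.U33 (K9)
open Cfsg.Agent.Lib.LatticeUnitary.U4 (atomPerm line mem_line genU matN lp lq cf image_ok mulVec_eq)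

/-- The special unitary group. -/
abbrev SU4 : Type := Cfsg.SU 4 K9 3

theorem gen_code {g : ℕ} (h : g < 2) :
    ok (Xc.getD g []) = true ∧ ok (Xi.getD g []) = true ∧ mulC (Xc.getD g []) (Xi.getD g []) = oneC ∧
      mulC (Xi.getD g []) (Xc.getD g []) = oneC := by
  have h' := List.all_eq_true.1 genOk_true g (List.mem_range.2 h)
  simp only [Bool.and_eq_true, beq_iff_eq] at h'
  exact ⟨h'.1.1.1.1.1.1.1, h'.1.1.1.1.1.1.2, h'.1.1.1.1.1.2, h'.1.1.1.1.2⟩

/-- A generator on the twelve-dimensional modules. -/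
noncomputable def genX (g : Fin 2) : GL24 where
  val := toMat (Xc.getD g.1 [])
  inv := toMat (Xi.getD g.1 [])
  val_inv := by
    obtain ⟨a, b, c, -⟩ := gen_code g.2
    rw [← toMat_mulC a b, c, toMat_oneC]
  inv_val := by
    obtain ⟨a, b, -, d⟩ := gen_code g.2
    rw [← toMat_mulC b a, d, toMat_oneC]

theorem has_genX (g : Fin 2) : Has (genX g) (Xc.getD g.1 []) := ⟨(gen_code g.2).1, rfl⟩

/-- A scalar matrix from its code. -/
noncomputable def omU (b : Bool) : GL24 where
  val := toMat (cond b omA omB)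
  inv := toMat (mulC (cond b omA omB) (cond b omA omB))
  val_inv := by
    have h := om_ok
    simp only [Bool.and_eq_true, beq_iff_eq] at h
    obtain ⟨⟨⟨⟨⟨a, b'⟩, c⟩, d⟩, -⟩, -⟩ := h
    have hm : ∀ A, ok A = true → powC A 3 = oneC → toMat A * toMat (mulC A A) = 1 := fun A hA e => by
      rw [← toMat_oneC, ← e]
      show _ = toMat (mulC A (mulC A (mulC A oneC)))
      rw [toMat_mulC hA (ok_mulC hA (ok_mulC hA ok_oneC)), toMat_mulC hA hA,
        toMat_mulC hA (ok_mulC hA ok_oneC), toMat_mulC hA ok_oneC, toMat_oneC, mul_one]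
    cases b
    exacts [hm _ b' d, hm _ a c]
  inv_val := by
    have h := om_ok
    simp only [Bool.and_eq_true, beq_iff_eq] at h
    obtain ⟨⟨⟨⟨⟨a, b'⟩, c⟩, d⟩, -⟩, -⟩ := h
    have hm : ∀ A, ok A = true → powC A 3 = oneC → toMat (mulC A A) * toMat A = 1 := fun A hA e => by
      rw [← toMat_oneC, ← e]
      show _ = toMat (mulC A (mulC A (mulC A oneC)))
      rw [toMat_mulC hA (ok_mulC hA (ok_mulC hA ok_oneC)), toMat_mulC hA hA,
        toMat_mulC hA (ok_mulC hA ok_oneC), toMat_mulC hA ok_oneC, toMat_oneC, mul_one, mul_assoc]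
    cases b
    exacts [hm _ b' d, hm _ a c]

theorem has_omU (b : Bool) : Has (omU b) (cond b omA omB) := by
  have h := om_ok
  simp only [Bool.and_eq_true] at h
  cases b
  exacts [⟨h.1.1.1.1.2, rfl⟩, ⟨h.1.1.1.1.1, rfl⟩]

/-- An element permutes the isotropic lines and the lines of the modules compatibly. -/
def Respects (p : GL24 × SU4) : Prop :=
  (∀ b, p.1 * omU b = omU b * p.1) ∧
  ∃ (k' : Fin 112 → Fin 112) (i' : Fin 252 → Fin 252),
    (∀ k, ∀ z ∈ line k, Matrix.mulVec p.2.1.1 z ∈ line (k' k)) ∧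
    (∀ i : Fin 252, ∀ v ∈ lnV i.1, ∃ u ∈ lnV (i' i).1, (p.1 : Mat).mulVec (toVec v) = toVec u) ∧
    ∀ (k : Fin 112) (i : Fin 252), inMask k.1 i.1 = true → inMask (k' k).1 (i' i).1 = true

/-- The pairs generating the cover. -/
noncomputable def pairGen (g : Fin 2) : GL24 × SU4 := (genX g, genU g)

theorem respects_one : Respects 1 :=
  ⟨fun b => by simp, id, id, fun k z hz => by simpa using hz, fun i v hv => ⟨v, hv, by simp⟩,
    fun k i h => h⟩

theorem Respects.mul {p q : GL24 × SU4} (hp : Respects p) (hq : Respects q) : Respects (p * q) := by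
  obtain ⟨cp, a, s, a1, a2, a3⟩ := hp
  obtain ⟨cq, b, t, b1, b2, b3⟩ := hq
  refine ⟨fun c => ?_, a ∘ b, s ∘ t, fun k z hz => ?_, fun i v hv => ?_, fun k i h => a3 _ _ (b3 _ _ h)⟩
  · rw [Prod.fst_mul, mul_assoc, cq c, ← mul_assoc, cp c, mul_assoc]
  · show Matrix.mulVec (p.2 * q.2 : SU4).1.1 z ∈ _
    rw [Subgroup.coe_mul, Matrix.SpecialLinearGroup.coe_mul, ← Matrix.mulVec_mulVec]
    exact a1 _ _ (b1 k z hz)
  · obtain ⟨u, hu, e⟩ := b2 i v hv
    obtain ⟨w, hw, e'⟩ := a2 _ u hu
    exact ⟨w, hw, by rw [Prod.fst_mul, Units.val_mul, ← Matrix.mulVec_mulVec, e, e']⟩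

theorem respects_gen (g : Fin 2) : Respects (pairGen g) := by
  have h := List.all_eq_true.1 genOk_true g.1 (List.mem_range.2 g.2)
  simp only [Bool.and_eq_true, beq_iff_eq, List.all_eq_true, List.mem_range, Nat.blt_eq, Bool.or_eq_true,
    Bool.not_eq_true', List.contains_iff_mem] at h
  obtain ⟨⟨⟨⟨-, hA⟩, hB⟩, hln⟩, hmask⟩ := h
  refine ⟨fun b => ?_, fun k => ⟨atomPerm g k.1, (LatticeUnitary.U4.atom_ok g k).1⟩,
    fun i => ⟨lnP g.1 i.1, (hln i.1 i.2).1⟩, fun j z hz => ?_, fun i v hv => ?_, fun k i hki => ?_⟩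
  · cases b
    · exact ((has_genX g).mul (has_omU false)).eq (hB ▸ (has_omU false).mul (has_genX g))
    · exact ((has_genX g).mul (has_omU true)).eq (hA ▸ (has_omU true).mul (has_genX g))
  · show Matrix.mulVec (matN g) z ∈ _
    obtain ⟨a, b, rfl⟩ := mem_line.1 hz
    have himg : Matrix.mulVec (matN g) (lp j) ∈ line ⟨_, (LatticeUnitary.U4.atom_ok g j).1⟩ ∧
        Matrix.mulVec (matN g) (lq j) ∈ line ⟨_, (LatticeUnitary.U4.atom_ok g j).1⟩ := by
      constructor
      · exact mem_line.2 ⟨cf g j 0, cf g j 1, funext fun i => by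
          rw [mulVec_eq]; simpa using ((image_ok g j i).1).symm⟩
      · exact mem_line.2 ⟨cf g j 2, cf g j 3, funext fun i => by
          rw [mulVec_eq]; simpa using ((image_ok g j i).2).symm⟩
    rw [Matrix.mulVec_add, Matrix.mulVec_smul, Matrix.mulVec_smul]
    exact add_mem (Submodule.smul_mem _ _ himg.1) (Submodule.smul_mem _ _ himg.2)
  · exact ⟨_, (hln i.1 i.2).2 v hv, (has_genX g).mulVec v⟩
  · exact (hmask k.1 k.2 i.1 i.2).resolve_left (fun e => Bool.false_ne_true (e.symm.trans hki))

/-- The cover. -/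
noncomputable abbrev K : Subgroup (GL24 × SU4) := Subgroup.closure (Set.range pairGen)

instance finite_K : Finite K := inferInstance

theorem pairGen_mem (g : Fin 2) : pairGen g ∈ K := Subgroup.subset_closure ⟨g, rfl⟩

theorem respects_K {p : GL24 × SU4} (hp : p ∈ K) : Respects p := by
  have : p ∈ Submonoid.closure (Set.range pairGen) := by
    rw [← Subgroup.closure_toSubmonoid_of_finite]; exact hp
  induction this using Submonoid.closure_induction with
  | mem x hx => obtain ⟨g, rfl⟩ := hx; exact respects_gen g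
  | one => exact respects_one
  | mul x y hx hy ihx ihy =>
    exact (ihx (by rw [← Subgroup.mem_toSubmonoid, Subgroup.closure_toSubmonoid_of_finite]; exact hx)).mul
      (ihy (by rw [← Subgroup.mem_toSubmonoid, Subgroup.closure_toSubmonoid_of_finite]; exact hy))

/-- The first projection. -/
noncomputable def pr1 : K →* GL24 := (MonoidHom.fst GL24 SU4).comp K.subtype

/-- The second projection. -/
noncomputable def pr2 : K →* SU4 := (MonoidHom.snd GL24 SU4).comp K.subtype

theorem pr_ext {x y : K} (h1 : pr1 x = pr1 y) (h2 : pr2 x = pr2 y) : x = y :=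
  Subtype.ext (Prod.ext h1 h2)

/-- The matrix in the unitary group. -/
noncomputable def mat4 (x : K) : Matrix (Fin 4) (Fin 4) K9 := (pr2 x).1.1

theorem mat4_one : mat4 1 = 1 := by
  rw [mat4, map_one, Subgroup.coe_one, Matrix.SpecialLinearGroup.coe_one]

theorem mat4_mul (x y : K) : mat4 (x * y) = mat4 x * mat4 y := by
  rw [mat4, map_mul, Subgroup.coe_mul, Matrix.SpecialLinearGroup.coe_mul]
  rfl

theorem respects_pr (x : K) : Respects (pr1 x, pr2 x) := respects_K x.2

/-- The permutation of the isotropic lines. -/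
noncomputable def act (x : K) : Fin 112 → Fin 112 := (respects_pr x).2.choose

theorem act_line (x : K) {k : Fin 112} {z : Fin 4 → K9} (hz : z ∈ line k) :
    Matrix.mulVec (mat4 x) z ∈ line (act x k) :=
  (respects_pr x).2.choose_spec.choose_spec.1 k z hz

/-- The permutation of the lines of the modules. -/
noncomputable def lnAct (x : K) : Fin 252 → Fin 252 := (respects_pr x).2.choose_spec.choose

theorem lnAct_mem (x : K) (i : Fin 252) {v : ℕ} (hv : v ∈ lnV i.1) :
    ∃ u ∈ lnV (lnAct x i).1, (pr1 x : Mat).mulVec (toVec v) = toVec u :=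
  (respects_pr x).2.choose_spec.choose_spec.2.1 i v hv

theorem lnAct_mask (x : K) (k : Fin 112) (i : Fin 252) (h : inMask k.1 i.1 = true) :
    inMask (act x k).1 (lnAct x i).1 = true :=
  (respects_pr x).2.choose_spec.choose_spec.2.2 k i h

theorem pr1_comm (x : K) (b : Bool) : pr1 x * omU b = omU b * pr1 x := (respects_pr x).1 b

attribute [irreducible] act lnAct

theorem act_unique (x : K) {k b : Fin 112} (h : ∀ z ∈ line k, Matrix.mulVec (mat4 x) z ∈ line b) :
    act x k = b := by
  have hinv : ∀ z : Fin 4 → K9, Matrix.mulVec (mat4 x) (Matrix.mulVec (mat4 x⁻¹) z) = z ∧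
      Matrix.mulVec (mat4 x⁻¹) (Matrix.mulVec (mat4 x) z) = z := fun z => by
    rw [Matrix.mulVec_mulVec, Matrix.mulVec_mulVec, ← mat4_mul, ← mat4_mul, mul_inv_cancel, inv_mul_cancel,
      mat4_one, Matrix.one_mulVec]
    exact ⟨rfl, rfl⟩
  have hk : act x⁻¹ (act x k) = k := (LatticeUnitary.U4.line_injective fun z hz => by
    have := act_line x⁻¹ (act_line x hz)
    rwa [(hinv z).2] at this).symm
  refine LatticeUnitary.U4.line_injective fun z hz => ?_
  have h1 := act_line x⁻¹ hz
  rw [hk] at h1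
  have h2 := h _ h1
  rwa [(hinv z).1] at h2

theorem act_one (k : Fin 112) : act 1 k = k := act_unique 1 fun z hz => by
  rwa [mat4_one, Matrix.one_mulVec]

theorem act_mul (x y : K) (k : Fin 112) : act (x * y) k = act x (act y k) := act_unique (x * y) fun z hz => by
  rw [mat4_mul, ← Matrix.mulVec_mulVec]
  exact act_line x (act_line y hz)

/-- The action on the isotropic lines. -/
noncomputable def rho : K →* Equiv.Perm (Fin 112) where
  toFun x :=
    { toFun := act x
      invFun := act x⁻¹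
      left_inv := fun k => by rw [← act_mul, inv_mul_cancel, act_one]
      right_inv := fun k => by rw [← act_mul, mul_inv_cancel, act_one] }
  map_one' := Equiv.ext act_one
  map_mul' x y := Equiv.ext (act_mul x y)

theorem rho_apply (x : K) (k : Fin 112) : rho x k = act x k := rfl

end Cfsg.Agent.Lib.U43Mult
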